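import Cfsg.Agent.H779.G2.Stmts4

/-!
# S5211, `q = 2`: rows over `ZMod 2` (helper780)

Everything for `q = 2` may be done for `K = ZMod 2` only (`StMain2Z`, `StPush2`).
-/

set_option autoImplicit false

namespace Cfsg.Agent.H780.GT2

open Cfsg Cfsg.FusionSystem Cfsg.Agent.H756.PU Cfsg.Agent.H779.G2

universe u

instance fact2 : Fact (Nat.Prime 2) := ⟨by norm_num⟩

/-- the group of order 64 -/
abbrev U2 : Type := GU (ZMod 2)

/-- the automorphism `γ` of `Q` is induced by an element of `G` through `ι` -/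
def Ind {G : Type} [Group G] (ι : U2 →* G) {Q : Subgroup U2} (γ : MulAut Q) : Prop :=
  ∃ g : G, ∀ x : Q, ι ((γ x : Q) : U2) = g * ι (x : U2) * g⁻¹

/-- `ι` embeds `U2` as a Sylow 2-subgroup, and the standard Weyl element of `Q_b` is induced by `G` -/
structure RowD {G : Type} [Group G] (ι : U2 →* G) : Prop where
  inj : Function.Injective ι
  syl : ∃ T : Sylow 2 G, (T : Subgroup G) = ι.range
  wb : ∃ γ : MulAut (Qb (ZMod 2)), IsWb γ ∧ Ind ι γ

/-- (row `M₁₂`) -/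
def StM12 : Prop :=
  ∃ (G : Type) (_ : Group G) (_ : Finite G) (ι : U2 →* G), RowD ι ∧
    (∃ γ : MulAut (Qa (ZMod 2)), LinA R2m γ ∧ Ind ι γ) ∧ ¬ ∃ γ : MulAut (Qa (ZMod 2)), LinA R1m γ ∧ Ind ι γ

/-- (row `G₂(3)`) -/
def StG23 : Prop :=
  ∃ (G : Type) (_ : Group G) (_ : Finite G) (ι : U2 →* G), RowD ι ∧
    (∃ γ : MulAut (Qa (ZMod 2)), LinA R1m γ ∧ Ind ι γ) ∧ ∃ γ : MulAut (Qa (ZMod 2)), LinA R2m γ ∧ Ind ι γ

/-- (SYS) the fusion system of a finite group on `U2` -/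
def StSys2 : Prop :=
  ∀ (G : Type) [Group G] [Finite G] (ι : U2 →* G), Function.Injective ι → (∃ T : Sylow 2 G, (T : Subgroup G) = ι.range) →
    ∃ F : FusionSystem (⊤ : Subgroup U2), F.IsSaturated 2 ∧ F.IsRealizable 2 ∧
      ∀ (Q : Subgroup U2) (γ : MulAut Q), γ ∈ F.autGroup Q ↔ Ind ι γ

/-- (GBU) `Aut_F(Q_b)` is standard as soon as it contains a standard Weyl element -/
def StGbu : Prop :=
  ∀ Γ : Subgroup (MulAut (Qb (ZMod 2))), Par2 Γ → (∃ γ ∈ Γ, IsWb γ) → Γ = Gen IsWb ⊥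

/-- (GAX) the five groups of `StGa2` are recognized by the elements `R1m`, `R2m` -/
def StGax : Prop :=
  (¬ ∃ γ ∈ (GenR {R1m} : Subgroup (MulAut (Qa (ZMod 2)))), LinA R2m γ) ∧
  (¬ ∃ γ ∈ (GenR {R2m} : Subgroup (MulAut (Qa (ZMod 2)))), LinA R1m γ) ∧
  (¬ ∃ γ ∈ (GenR {R1m * R2m} : Subgroup (MulAut (Qa (ZMod 2)))), LinA R1m γ ∨ LinA R2m γ) ∧
  (¬ ∃ γ ∈ (GenR {R1m * R2m * R2m} : Subgroup (MulAut (Qa (ZMod 2)))), LinA R1m γ ∨ LinA R2m γ)

/-- the three realizable types, exactly -/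
def StReal2 (T : Subgroup (MulAut (Qa (ZMod 2)))) : Prop :=
  ∃ F : FusionSystem (⊤ : Subgroup U2), F.IsSaturated 2 ∧ F.IsRealizable 2 ∧
    F.autGroup (Qb (ZMod 2)) = Gen IsWb ⊥ ∧ F.autGroup (Qa (ZMod 2)) = T

/-- (PAR2) the automizers of a saturated system at `q = 2` -/
def StPar2 : Prop :=
  ∀ (F : FusionSystem (⊤ : Subgroup U2)), F.IsSaturated 2 →
    AF F = (MulAut.conj : U2 →* MulAut U2).range ∧
    autInducedBy ⊤ (Qa (ZMod 2)) ≤ F.autGroup (Qa (ZMod 2)) ∧ autInducedBy ⊤ (Qb (ZMod 2)) ≤ F.autGroup (Qb (ZMod 2)) ∧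
    (∀ Q : Subgroup U2, (Q = Qa (ZMod 2) ∨ Q = Qb (ZMod 2)) → ∀ P : Subgroup (MulAut Q), P ≤ F.autGroup Q → IsPGroup 2 P →
      ∃ g ∈ F.autGroup Q, ∀ x ∈ P, g * x * g⁻¹ ∈ autInducedBy ⊤ Q)

/-- (R1) the constrained type: `Z₃ = 2³` is normal and centric, so `F` is realizable (no hypothesis on `F.core`) -/
def StCon2 : Prop :=
  ∀ (F : FusionSystem (⊤ : Subgroup U2)), F.IsSaturated 2 → F.autGroup (Qb (ZMod 2)) = Gen IsWb ⊥ →
    F.autGroup (Qa (ZMod 2)) = GenR {R1m} → F.IsRealizable 2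

/-- the goal for `ZMod 2` (no core hypothesis needed) -/
def StMain2Z : Prop := ∀ (F : FusionSystem (⊤ : Subgroup U2)), F.IsSaturated 2 → F.IsRealizable 2

/-- from `StTrans` along `GU K ≃* GU (ZMod 2)` -/
def StPush2 : Prop := StMain2Z → StMain2.{u}

/-! ### The explicit automorphisms of `U2`: all four candidates for `Aut_F(Q_b)` are `th1^i th3^j`-conjugates of the
standard one; `th4` normalizes the standard one and swaps `GenR {R1m * R2m}` (`= Gen IsWa ⊥`) and `GenR {R1m * R2m * R2m}` -/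

/-- `f + a` -/
def th1 (x : U2) : U2 := ⟨x.a, x.b, x.c, x.d, x.e, x.f + x.a⟩
/-- `c ↔ d` -/
def th3 (x : U2) : U2 := ⟨x.a, x.b, x.d, x.c, x.e, x.f + x.c * x.d + x.e⟩
/-- `d + b, e + c, f + d + bc` -/
def th4 (x : U2) : U2 := ⟨x.a, x.b, x.c, x.d + x.b, x.e + x.c, x.f + x.d + x.b * x.c⟩

instance : DecidableEq U2 := fun x y =>
  decidable_of_iff (x.a = y.a ∧ x.b = y.b ∧ x.c = y.c ∧ x.d = y.d ∧ x.e = y.e ∧ x.f = y.f) (by
    constructor
    · rintro ⟨h1, h2, h3, h4, h5, h6⟩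
      exact GU.ext h1 h2 h3 h4 h5 h6
    · rintro rfl
      exact ⟨rfl, rfl, rfl, rfl, rfl, rfl⟩)

/-- `U2` as a finite type -/
def eqv : U2 ≃ ZMod 2 × ZMod 2 × ZMod 2 × ZMod 2 × ZMod 2 × ZMod 2 where
  toFun x := (x.a, x.b, x.c, x.d, x.e, x.f)
  invFun p := ⟨p.1, p.2.1, p.2.2.1, p.2.2.2.1, p.2.2.2.2.1, p.2.2.2.2.2⟩
  left_inv _ := rfl
  right_inv _ := rfl

instance : Fintype U2 := Fintype.ofEquiv _ eqv.symm

theorem th1_mul : ∀ x y : U2, th1 (x * y) = th1 x * th1 y := by decide +kernel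
theorem th3_mul : ∀ x y : U2, th3 (x * y) = th3 x * th3 y := by decide +kernel
theorem th4_mul : ∀ x y : U2, th4 (x * y) = th4 x * th4 y := by decide +kernel

/-- `th1` -/
def Th1 : MulAut U2 where
  toFun := th1
  invFun := th1
  left_inv := by decide +kernel
  right_inv := by decide +kernel
  map_mul' := th1_mul

/-- `th3` -/
def Th3 : MulAut U2 where
  toFun := th3
  invFun := th3
  left_inv := by decide +kernel
  right_inv := by decide +kernel
  map_mul' := th3_mul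

/-- `th4` -/
def Th4 : MulAut U2 where
  toFun := th4
  invFun x := th4 (th4 (th4 x))
  left_inv := by decide +kernel
  right_inv := by decide +kernel
  map_mul' := th4_mul

end Cfsg.Agent.H780.GT2
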